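import Mathlib

/-!
# Local rings of étale morphisms: regularity and reducedness
-/

set_option autoImplicit false
universe u
open IsLocalRing
open scoped TensorProduct

namespace Groth.Agent.EtStalk

variable (R S : Type u) [CommRing R] [CommRing S] [Algebra R S] [IsLocalRing R] [IsLocalRing S]
  [IsNoetherianRing R] [IsNoetherianRing S] [Module.Flat R S] [IsLocalHom (algebraMap R S)]

/-- A set generating the extended maximal ideal, coming from a generating set below. -/
lemma spanFinrank_eq (hm : (maximalIdeal R).map (algebraMap R S) = maximalIdeal S) :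
    (maximalIdeal S).spanFinrank = (maximalIdeal R).spanFinrank := by
  classical
  apply le_antisymm
  · obtain ⟨s, hs, hspan⟩ :=
      Submodule.FG.exists_span_set_encard_eq_spanFinrank (IsNoetherian.noetherian (maximalIdeal R))
    have hfin : s.Finite := Set.finite_of_encard_eq_coe hs
    calc (maximalIdeal S).spanFinrank
        = (Submodule.span S (algebraMap R S '' s)).spanFinrank := by
          rw [← hm, ← hspan]
          congr 1
          exact (Ideal.map_span (algebraMap R S) s)
      _ ≤ (algebraMap R S '' s).ncard :=
          Submodule.spanFinrank_span_le_ncard_of_finite (hfin.image _)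
      _ ≤ s.ncard := Set.ncard_image_le hfin
      _ = _ := by rw [Set.ncard_def, hs, ENat.toNat_coe]
  · have := Module.FaithfullyFlat.of_flat_of_isLocalHom (A := R) (B := S)
    let g : maximalIdeal R → maximalIdeal S := fun x ↦
      ⟨algebraMap R S x, hm ▸ Ideal.mem_map_of_mem _ x.2⟩
    have hg : Submodule.span S (Set.range g) = ⊤ := by
      apply Submodule.map_injective_of_injective (maximalIdeal S).injective_subtype
      rw [Submodule.map_span, Submodule.map_top, Submodule.range_subtype, ← Set.range_comp]
      refine Eq.trans ?_ hm
      change Submodule.span S (Set.range fun x : maximalIdeal R ↦ algebraMap R S x) =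
        Submodule.span S (algebraMap R S '' (maximalIdeal R : Set R))
      rw [Set.image_eq_range]
      rfl
    have htop := (CotangentSpace.span_image_eq_top_iff (R := S)).mpr hg
    obtain ⟨t, ht, hcard, hspan, -⟩ := Submodule.exists_finset_span_eq_linearIndepOn (ResidueField S)
      ((maximalIdeal S).toCotangent '' Set.range g)
    rw [htop, finrank_top] at hcard
    rw [htop] at hspan
    choose x hx using fun y : t ↦ (Set.image_image _ g _ ▸ (Set.image_univ (f := g)).symm ▸ ht y.2 :
      (y : CotangentSpace S) ∈ (fun a ↦ (maximalIdeal S).toCotangent (g a)) '' Set.univ)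
    let I : Ideal R := Ideal.span (Set.range fun y : t ↦ (x y : R))
    have hI : I.map (algebraMap R S) = maximalIdeal S := by
      have h1 : Submodule.span S (Set.range fun y : t ↦ g (x y)) = ⊤ := by
        apply (CotangentSpace.span_image_eq_top_iff (R := S)).mp
        rw [← hspan, ← Set.range_comp]
        congr 1
        ext z
        simp only [Set.mem_range, Function.comp_apply, Finset.mem_coe]
        exact ⟨fun ⟨y, hy⟩ ↦ (hy.symm.trans (hx y).2).symm ▸ y.2, fun hz ↦ ⟨⟨z, hz⟩, (hx _).2⟩⟩
      have h2 := congrArg (Submodule.map (maximalIdeal S).subtype) h1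
      rw [Submodule.map_span, Submodule.map_top, Submodule.range_subtype, ← Set.range_comp] at h2
      rw [← h2, Ideal.map_span, ← Set.range_comp]
      rfl
    have hImax : I = maximalIdeal R := by
      rw [← Ideal.comap_map_eq_self_of_faithfullyFlat (B := S) I, hI,
        IsLocalRing.maximalIdeal_comap]
    calc (maximalIdeal R).spanFinrank = I.spanFinrank := by rw [hImax]
      _ ≤ (Set.range fun y : t ↦ (x y : R)).ncard :=
          Submodule.spanFinrank_span_le_ncard_of_finite (Set.finite_range _)
      _ ≤ t.card := by
          rw [← Set.image_univ]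
          exact (Set.ncard_image_le Set.finite_univ).trans (by simp)
      _ = _ := by rw [hcard, spanFinrank_maximalIdeal_eq_finrank_cotangentSpace]

omit [IsLocalRing R] [IsLocalRing S] [IsNoetherianRing S] [IsLocalHom (algebraMap R S)] in
/-- Unramified flat algebras over reduced Noetherian rings are reduced. -/
lemma isReduced [IsReduced R] [Algebra.EssFiniteType R S] [Algebra.FormallyUnramified R S] :
    IsReduced S := by
  classical
  let K : minimalPrimes R → Type u := fun p ↦ FractionRing (R ⧸ p.1)
  have : ∀ p : minimalPrimes R, p.1.IsPrime := fun p ↦ p.2.isPrime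
  have : Fintype (minimalPrimes R) :=
    (minimalPrimes.finite_of_isNoetherianRing R).fintype
  let φ : R →ₗ[R] Π p, K p := LinearMap.pi fun p ↦ Algebra.linearMap R (K p)
  have hφ : Function.Injective φ := by
    rw [injective_iff_map_eq_zero]
    intro r hr
    have : r ∈ nilradical R := by
      rw [show nilradical R = (⊥ : Ideal R).radical from rfl, ← Ideal.sInf_minimalPrimes]
      refine (Submodule.mem_sInf).mpr fun p hp ↦ ?_
      have := congr_fun hr ⟨p, hp⟩
      change algebraMap R (K ⟨p, hp⟩) r = 0 at this
      rw [IsScalarTower.algebraMap_apply R (R ⧸ p) (K ⟨p, hp⟩),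
        map_eq_zero_iff _ (IsFractionRing.injective (R ⧸ p) (K ⟨p, hp⟩))] at this
      exact Ideal.Quotient.eq_zero_iff_mem.mp this
    exact (mem_nilradical.mp this).eq_zero
  let ψ : S →ₐ[S] Π p, S ⊗[R] K p := Algebra.ofId S _
  have hψ : Function.Injective ψ := by
    have h1 : Function.Injective (φ.lTensor S ∘ (TensorProduct.rid R S).symm) :=
      (Module.Flat.lTensor_preserves_injective_linearMap φ hφ).comp
        (TensorProduct.rid R S).symm.injective
    have h2 := (TensorProduct.piRight R S S K).injective.comp h1
    convert h2 using 1
    funext s p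
    simp [ψ, φ]; rfl
  have hred : ∀ p, IsReduced (K p ⊗[R] S) := fun p ↦
    Algebra.FormallyUnramified.isReduced_of_field (K p) (K p ⊗[R] S)
  refine ⟨fun s hs ↦ hψ ?_⟩
  funext p
  have := hred p
  rw [map_zero]
  exact (Algebra.TensorProduct.comm R S (K p)).injective (by
    rw [Pi.zero_apply, map_zero]
    exact (((hs.map ψ).map (Pi.evalRingHom _ p)).map (Algebra.TensorProduct.comm R S (K p))).eq_zero)

end Groth.Agent.EtStalk
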